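/-
ReeTor package (COV) of helper17: the partition of the elements of a small Ree group by their
orders (abstract form).
-/
import Mathlib
import Cfsg.Agent.Lib.Helper17.ReeTor.Pkgs2

set_option autoImplicit false

namespace Cfsg.Agent.Lib.Helper96.ReeTor

open Cfsg.Agent.Lib.Helper17.ReeTor

universe u

theorem cover_arith (m q : ℕ) (hm : 1 ≤ m) (hq : q = 3 ^ (2 * m + 1)) :
    27 ≤ q ∧ 3 ∣ q ∧ q % 2 = 1 ∧
    q ^ 3 * (q ^ 3 + 1) * (q - 1) = (q ^ 3 * (q + 1) * (q - 1)) * (q ^ 2 - q + 1) ∧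
    Nat.Coprime (q ^ 2 - q + 1) q ∧ Nat.Coprime (q ^ 2 - q + 1) (q - 1) ∧
    Nat.Coprime (q ^ 2 - q + 1) (q + 1) ∧
    (q ^ 2 - q + 1) % 2 = 1 ∧ (q ^ 2 - q + 1) % 3 = 1 ∧ q ^ 2 - 1 = (q - 1) * (q + 1) := by
  have hq27 : 27 ≤ q := by
    rw [hq]
    calc 27 = 3 ^ 3 := by norm_num
      _ ≤ 3 ^ (2 * m + 1) := Nat.pow_le_pow_right (by norm_num) (by omega)
  have h3q : 3 ∣ q := by
    rw [hq]
    exact dvd_pow_self 3 (by omega)
  have hodd : q % 2 = 1 := by
    rw [hq]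
    exact Nat.odd_iff.mp (Odd.pow (by decide))
  obtain ⟨k, rfl⟩ : ∃ k, q = k + 2 := ⟨q - 2, by omega⟩
  have e : (k + 2) ^ 2 - (k + 2) = (k + 2) * (k + 1) := by
    apply Nat.sub_eq_of_eq_add
    ring
  have e1 : k + 2 - 1 = k + 1 := rfl
  have e2 : (k + 2) ^ 2 - 1 = (k + 1) * (k + 2 + 1) := by
    apply Nat.sub_eq_of_eq_add
    ring
  rw [e, e1, e2]
  have cop : ∀ a b : ℕ, (∀ d, d ∣ a → d ∣ b → d ∣ 1) → Nat.Coprime a b := fun a b h =>
    Nat.eq_one_of_dvd_one (h _ (Nat.gcd_dvd_left a b) (Nat.gcd_dvd_right a b))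
  obtain ⟨t, ht⟩ : ∃ t, k + 1 = 2 * t := ⟨(k + 1) / 2, by omega⟩
  obtain ⟨s, hs⟩ := h3q
  have hmod2 : ((k + 2) * (k + 1) + 1) % 2 = 1 := by
    have : (k + 2) * (k + 1) = 2 * ((k + 2) * t) := by rw [ht]; ring
    omega
  have hmod3 : ((k + 2) * (k + 1) + 1) % 3 = 1 := by
    have : (k + 2) * (k + 1) = 3 * (s * (k + 1)) := by rw [hs]; ring
    omega
  refine ⟨hq27, ⟨s, hs⟩, hodd, by ring, ?_, ?_, ?_, hmod2, hmod3, rfl⟩
  · apply cop
    intro d h1 h2
    exact (Nat.dvd_add_right (Dvd.dvd.mul_right h2 (k + 1))).mp h1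
  · apply cop
    intro d h1 h2
    exact (Nat.dvd_add_right (Dvd.dvd.mul_left h2 (k + 2))).mp h1
  · have h3 : ∀ d, d ∣ (k + 2) * (k + 1) + 1 → d ∣ k + 2 + 1 → d ∣ 3 := by
      intro d h1 h2
      have e3 : (k + 2) * (k + 1) + 1 = (k + 2 + 1) * k + 3 := by ring
      rw [e3] at h1
      exact (Nat.dvd_add_right (Dvd.dvd.mul_right h2 k)).mp h1
    have hg := h3 _ (Nat.gcd_dvd_left _ _) (Nat.gcd_dvd_right _ _)
    rcases (Nat.dvd_prime Nat.prime_three).mp hg with h | h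
    · exact h
    · exfalso
      have h4 : 3 ∣ (k + 2) * (k + 1) + 1 := by
        rw [← h]
        exact Nat.gcd_dvd_left _ _
      omega

theorem card_six {α : Type*} [Finite α] (a₀ : α) (P₂ P₃ P₄ P₅ P₆ : α → Prop)
    (hcov : ∀ a, a = a₀ ∨ P₂ a ∨ P₃ a ∨ P₄ a ∨ P₅ a ∨ P₆ a)
    (h12 : ¬ P₂ a₀) (h13 : ¬ P₃ a₀) (h14 : ¬ P₄ a₀) (h15 : ¬ P₅ a₀) (h16 : ¬ P₆ a₀)
    (h23 : ∀ a, P₂ a → ¬ P₃ a) (h24 : ∀ a, P₂ a → ¬ P₄ a) (h25 : ∀ a, P₂ a → ¬ P₅ a)
    (h26 : ∀ a, P₂ a → ¬ P₆ a) (h34 : ∀ a, P₃ a → ¬ P₄ a) (h35 : ∀ a, P₃ a → ¬ P₅ a)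
    (h36 : ∀ a, P₃ a → ¬ P₆ a) (h45 : ∀ a, P₄ a → ¬ P₅ a) (h46 : ∀ a, P₄ a → ¬ P₆ a)
    (h56 : ∀ a, P₅ a → ¬ P₆ a) :
    Nat.card α = 1 + Nat.card {a // P₂ a} + Nat.card {a // P₃ a} + Nat.card {a // P₄ a} +
      Nat.card {a // P₅ a} + Nat.card {a // P₆ a} := by
  classical
  have hft : Fintype α := Fintype.ofFinite α
  have hind : ∀ P : α → Prop, Nat.card {a // P a} = ∑ a : α, if P a then 1 else 0 := by
    intro P
    rw [Nat.card_eq_fintype_card, Fintype.card_subtype, Finset.card_filter]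
  rw [hind P₂, hind P₃, hind P₄, hind P₅, hind P₆]
  have h1 : (1 : ℕ) = ∑ a : α, if a = a₀ then 1 else 0 := by simp
  rw [Nat.card_eq_fintype_card, ← Finset.card_univ, Finset.card_eq_sum_ones]
  conv_rhs => rw [h1]
  rw [← Finset.sum_add_distrib, ← Finset.sum_add_distrib, ← Finset.sum_add_distrib,
    ← Finset.sum_add_distrib, ← Finset.sum_add_distrib]
  apply Finset.sum_congr rfl
  intro a _
  rcases hcov a with h | h | h | h | h | h
  · subst h
    simp [h12, h13, h14, h15, h16]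
  · have n1 : a ≠ a₀ := fun e => h12 (e ▸ h)
    simp [h, n1, h23 a h, h24 a h, h25 a h, h26 a h]
  · have n1 : a ≠ a₀ := fun e => h13 (e ▸ h)
    have n2 : ¬ P₂ a := fun e => h23 a e h
    simp [h, n1, n2, h34 a h, h35 a h, h36 a h]
  · have n1 : a ≠ a₀ := fun e => h14 (e ▸ h)
    have n2 : ¬ P₂ a := fun e => h24 a e h
    have n3 : ¬ P₃ a := fun e => h34 a e h
    simp [h, n1, n2, n3, h45 a h, h46 a h]
  · have n1 : a ≠ a₀ := fun e => h15 (e ▸ h)
    have n2 : ¬ P₂ a := fun e => h25 a e h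
    have n3 : ¬ P₃ a := fun e => h35 a e h
    have n4 : ¬ P₄ a := fun e => h45 a e h
    simp [h, n1, n2, n3, n4, h56 a h]
  · have n1 : a ≠ a₀ := fun e => h16 (e ▸ h)
    have n2 : ¬ P₂ a := fun e => h26 a e h
    have n3 : ¬ P₃ a := fun e => h36 a e h
    have n4 : ¬ P₄ a := fun e => h46 a e h
    have n5 : ¬ P₅ a := fun e => h56 a e h
    simp [h, n1, n2, n3, n4, n5]

/-- **Package (COV).** -/
theorem pkgCover : PkgCover.{u} := by
  intro G _ _ m q hm hq hG h4 hs hm1 hp1 h3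
  obtain ⟨hq27, h3q, hqodd, hGf, hcq, hcq1, hcq2, hQodd, hQ3, hq21⟩ := cover_arith m q hm hq
  obtain ⟨Q, hQ⟩ : ∃ Q : ℕ, Q = q ^ 2 - q + 1 := ⟨_, rfl⟩
  rw [← hQ] at hGf hcq hcq1 hcq2 hQodd hQ3 h3 ⊢
  rw [hGf] at hG
  have hprime : ∀ p' : ℕ, p'.Prime → p' ∣ Nat.card G →
      p' = 3 ∨ p' ∣ q - 1 ∨ p' ∣ q + 1 ∨ p' ∣ Q := by
    intro p' hp' hd
    rw [hG] at hd
    rcases (Nat.Prime.dvd_mul hp').mp hd with h | h
    · rcases (Nat.Prime.dvd_mul hp').mp h with h | h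
      · rcases (Nat.Prime.dvd_mul hp').mp h with h | h
        · left
          have h5 : p' ∣ 3 := by
            have h6 := hp'.dvd_of_dvd_pow h
            rw [hq] at h6
            exact hp'.dvd_of_dvd_pow h6
          exact (Nat.prime_dvd_prime_iff_eq hp' Nat.prime_three).mp h5
        · right; right; left; exact h
      · right; left; exact h
    · right; right; right; exact h
  have hA : ∀ p : ℕ, p.Prime → p ∣ Q → ∀ y : G, orderOf y = p → ∀ p' : ℕ, p'.Prime →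
      ∀ x' : G, orderOf x' = p' → x' * y = y * x' → p' ∣ Q := by
    intro p hp hpQ y hy p' hp' x' hx' hc
    have hyC : y ∈ Subgroup.centralizer ({x'} : Set G) := by
      rw [Subgroup.mem_centralizer_singleton_iff]
      exact hc.symm
    have hpC : p ∣ Nat.card ↥(Subgroup.centralizer ({x'} : Set G)) := by
      rw [← hy]
      exact Subgroup.orderOf_dvd_natCard _ hyC
    have hnot : ∀ k : ℕ, Nat.Coprime Q k → ¬ p ∣ k := by
      intro k hk hpk
      have h5 := Nat.dvd_gcd hpQ hpk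
      rw [Nat.Coprime] at hk
      rw [hk] at h5
      exact hp.one_lt.ne' (Nat.dvd_one.mp h5)
    have hp'G : p' ∣ Nat.card G := by
      rw [← hx']
      exact orderOf_dvd_natCard x'
    by_cases h2 : p' = 2
    · exfalso
      rw [hs x' (by rw [hx', h2]), hq21] at hpC
      rcases (Nat.Prime.dvd_mul hp).mp hpC with h | h
      · exact hnot q hcq h
      · rcases (Nat.Prime.dvd_mul hp).mp h with h | h
        · exact hnot _ hcq1 h
        · exact hnot _ hcq2 h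
    rcases hprime p' hp' hp'G with h | h | h | h
    · exfalso
      have hx3 : x' ^ 3 = 1 := by
        rw [← h, ← hx']
        exact pow_orderOf_eq_one x'
      have h5 := h3 p hp hpQ y x' hy hc hx3
      rw [h5, orderOf_one] at hx'
      exact hp'.one_lt.ne hx'
    · exfalso
      rw [hm1 p' hp' h2 h x' hx'] at hpC
      exact hnot _ hcq1 hpC
    · exfalso
      rw [hp1 p' hp' h2 h x' hx'] at hpC
      exact hnot _ hcq2 hpC
    · exact h
  have hc1 : ∀ p : ℕ, p.Prime → p ∣ Q → ∀ y x : G, orderOf y = p → x * y = y * x →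
      x ^ Q = 1 := by
    intro p hp hpQ y x hy hc
    have hx0 : orderOf x ≠ 0 := (orderOf_pos x).ne'
    have hall : ∀ p' : ℕ, p'.Prime → p' ∣ orderOf x → p' ∣ Q := by
      intro p' hp' hd
      have ho := orderOf_pow_orderOf_div hx0 hd
      apply hA p hp hpQ y hy p' hp' _ ho
      have hcm : Commute x y := hc
      exact hcm.pow_left _
    have hQR : Nat.Coprime Q (q ^ 3 * (q + 1) * (q - 1)) :=
      Nat.Coprime.mul_right (Nat.Coprime.mul_right (Nat.Coprime.pow_right 3 hcq) hcq2) hcq1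
    have hcop : Nat.Coprime (orderOf x) (q ^ 3 * (q + 1) * (q - 1)) := by
      apply Nat.coprime_of_dvd
      intro k hk hk1 hk2
      have hkQ := hall k hk hk1
      have h5 := Nat.dvd_gcd hkQ hk2
      rw [Nat.Coprime] at hQR
      rw [hQR] at h5
      exact hk.one_lt.ne' (Nat.dvd_one.mp h5)
    have hdvd : orderOf x ∣ q ^ 3 * (q + 1) * (q - 1) * Q := by
      rw [← hG]
      exact orderOf_dvd_natCard x
    exact orderOf_dvd_iff_pow_eq_one.mp (hcop.dvd_of_dvd_mul_left hdvd)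
  have hc2 : ∀ g : G, g = 1 ∨ orderOf g = 2 ∨ 3 ∣ orderOf g ∨ (g ^ (q - 1) = 1 ∧ g ^ 2 ≠ 1) ∨
      (g ^ (q + 1) = 1 ∧ g ^ 2 ≠ 1) ∨ (g ≠ 1 ∧ g ^ Q = 1) := by
    intro g
    by_cases hg1 : g = 1
    · exact Or.inl hg1
    by_cases hg2 : orderOf g = 2
    · exact Or.inr (Or.inl hg2)
    by_cases hg3 : 3 ∣ orderOf g
    · exact Or.inr (Or.inr (Or.inl hg3))
    right; right; right
    have hg0 : orderOf g ≠ 0 := (orderOf_pos g).ne'
    have ho1 : orderOf g ≠ 1 := fun h => hg1 (orderOf_eq_one_iff.mp h)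
    have hgsq : g ^ 2 ≠ 1 := by
      intro h
      have hd := orderOf_dvd_of_pow_eq_one h
      rcases (Nat.dvd_prime Nat.prime_two).mp hd with h' | h'
      · exact ho1 h'
      · exact hg2 h'
    obtain ⟨l, hl, hlg, hl2⟩ : ∃ l : ℕ, l.Prime ∧ l ∣ orderOf g ∧ l ≠ 2 := by
      by_contra hcon
      have hall : ∀ {d : ℕ}, d.Prime → d ∣ orderOf g → d = 2 := by
        intro d hd hdg
        by_contra h
        exact hcon ⟨d, hd, hdg, h⟩
      have hpow := Nat.eq_prime_pow_of_unique_prime_dvd hg0 hall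
      have hk2 : 2 ≤ (orderOf g).primeFactorsList.length := by
        by_contra hlt
        have h01 : (orderOf g).primeFactorsList.length = 0 ∨
            (orderOf g).primeFactorsList.length = 1 := by omega
        rcases h01 with h0 | h1
        · rw [h0, pow_zero] at hpow
          exact ho1 hpow
        · rw [h1, pow_one] at hpow
          exact hg2 hpow
      have h4d : 4 ∣ orderOf g := by
        rw [hpow]
        exact pow_dvd_pow 2 hk2
      exact h4 _ (orderOf_pow_orderOf_div hg0 h4d)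
    have hl3 : l ≠ 3 := fun h => hg3 (h ▸ hlg)
    have hy := orderOf_pow_orderOf_div hg0 hlg
    have hcomm : g * g ^ (orderOf g / l) = g ^ (orderOf g / l) * g :=
      (pow_succ' g _).symm.trans (pow_succ g _)
    have hgC : g ∈ Subgroup.centralizer ({g ^ (orderOf g / l)} : Set G) := by
      rw [Subgroup.mem_centralizer_singleton_iff]
      exact hcomm
    have hlG : l ∣ Nat.card G := hlg.trans (orderOf_dvd_natCard g)
    rcases hprime l hl hlG with h | h | h | h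
    · exact absurd h hl3
    · left
      refine ⟨?_, hgsq⟩
      have h5 := Subgroup.orderOf_dvd_natCard _ hgC
      rw [hm1 l hl hl2 h _ hy] at h5
      exact orderOf_dvd_iff_pow_eq_one.mp h5
    · right; left
      refine ⟨?_, hgsq⟩
      have h5 := Subgroup.orderOf_dvd_natCard _ hgC
      rw [hp1 l hl hl2 h _ hy] at h5
      exact orderOf_dvd_iff_pow_eq_one.mp h5
    · right; right
      exact ⟨hg1, hc1 l hl h _ g hy hcomm⟩
  refine ⟨hc1, hc2, ?_⟩
  have hsq_of_two : ∀ g : G, orderOf g = 2 → g ^ 2 = 1 := by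
    intro g hg
    rw [← hg]
    exact pow_orderOf_eq_one g
  apply card_six (1 : G) (fun g => orderOf g = 2) (fun g => 3 ∣ orderOf g)
    (fun g => g ^ (q - 1) = 1 ∧ g ^ 2 ≠ 1) (fun g => g ^ (q + 1) = 1 ∧ g ^ 2 ≠ 1)
    (fun g => g ≠ 1 ∧ g ^ Q = 1) hc2
  · simp
  · simp
  · simp
  · simp
  · simp
  · intro g h2 h3'
    rw [h2] at h3'
    omega
  · rintro g h2 ⟨-, h⟩
    exact h (hsq_of_two g h2)
  · rintro g h2 ⟨-, h⟩
    exact h (hsq_of_two g h2)
  · rintro g h2 ⟨-, h⟩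
    have hd := orderOf_dvd_of_pow_eq_one h
    rw [h2] at hd
    omega
  · rintro g h3' ⟨h, -⟩
    have hd := h3'.trans (orderOf_dvd_of_pow_eq_one h)
    omega
  · rintro g h3' ⟨h, -⟩
    have hd := h3'.trans (orderOf_dvd_of_pow_eq_one h)
    omega
  · rintro g h3' ⟨-, h⟩
    have hd := h3'.trans (orderOf_dvd_of_pow_eq_one h)
    omega
  · rintro g ⟨h, hsq⟩ ⟨h', -⟩
    apply hsq
    have d1 := orderOf_dvd_of_pow_eq_one h
    have d2 := orderOf_dvd_of_pow_eq_one h'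
    have d3 := Nat.dvd_sub d2 d1
    have e : q + 1 - (q - 1) = 2 := by omega
    rw [e] at d3
    exact orderOf_dvd_iff_pow_eq_one.mp d3
  · rintro g ⟨h, hsq⟩ ⟨-, h'⟩
    apply hsq
    have d1 := orderOf_dvd_of_pow_eq_one h
    have d2 := orderOf_dvd_of_pow_eq_one h'
    have d3 := Nat.dvd_gcd d2 d1
    rw [Nat.Coprime] at hcq1
    rw [hcq1] at d3
    have e : g = 1 := orderOf_eq_one_iff.mp (Nat.dvd_one.mp d3)
    rw [e, one_pow]
  · rintro g ⟨h, hsq⟩ ⟨-, h'⟩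
    apply hsq
    have d1 := orderOf_dvd_of_pow_eq_one h
    have d2 := orderOf_dvd_of_pow_eq_one h'
    have d3 := Nat.dvd_gcd d2 d1
    rw [Nat.Coprime] at hcq2
    rw [hcq2] at d3
    have e : g = 1 := orderOf_eq_one_iff.mp (Nat.dvd_one.mp d3)
    rw [e, one_pow]

end Cfsg.Agent.Lib.Helper96.ReeTor
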