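/-
ReeTor package (TOR2) of helper17: the two classes of tori of orders `q ± r + 1` of the small
Ree groups, from the local structure of the centralisers and the number of elements of order
dividing `Q = q ^ 2 - q + 1`.
-/
import Mathlib
import Cfsg.Agent.Lib.Helper17.ReeTor.Pkgs2

set_option autoImplicit false

namespace Cfsg.Agent.Lib.Helper96.ReeTor

open Cfsg.Agent.Lib.Helper17.ReeTor

universe u

section

variable {G : Type u} [Group G]

/-- the conjugates of the non-trivial elements of `C` -/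
def conjSet (C : Subgroup G) : Set G :=
  {y | ∃ g : G, ∃ x ∈ ({x | x ∈ C ∧ x ≠ 1} : Set G), y = g * x * g⁻¹}

/-- torus data -/
structure TD (Q nG : ℕ) (C : Subgroup G) (c n j : ℕ) : Prop where
  cyc : IsCyclic ↥C
  card : Nat.card ↥C = c
  dvd : c ∣ Q
  cop : Nat.Coprime c (Q / c)
  cent : ∀ x ∈ C, x ≠ 1 → Subgroup.centralizer ({x} : Set G) = C
  conj : ∀ p' : ℕ, p'.Prime → p' ∣ c → ∀ w : G, orderOf w = p' → ∃ a : G, a * w * a⁻¹ ∈ C
  n1 : 1 ≤ n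
  n6 : n ≤ 6
  norm : Nat.card ↥(Subgroup.normalizer (C : Set G)) = n * c
  hj : nG = n * c * j
  c7 : 7 ≤ c

theorem td_of_local [Finite G] {q : ℕ} (h7 : ∀ d : ℕ, d ∣ q ^ 2 - q + 1 → d ≠ 1 → 7 ≤ d)
    {l : ℕ} (hl : l.Prime) (y : G) (hy : orderOf y = l) (hloc : TorLocal G q y) :
    ∃ c n j, TD (q ^ 2 - q + 1) (Nat.card G) (Subgroup.centralizer ({y} : Set G)) c n j ∧
      l ∣ c := by
  obtain ⟨t1, t2, t3, t4, t5, n, hn1, hn6, hn⟩ := hloc
  have hyC : y ∈ Subgroup.centralizer ({y} : Set G) := by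
    rw [Subgroup.mem_centralizer_singleton_iff]
  have hlc : l ∣ Nat.card ↥(Subgroup.centralizer ({y} : Set G)) := by
    rw [← hy]
    exact Subgroup.orderOf_dvd_natCard _ hyC
  have hc1 : Nat.card ↥(Subgroup.centralizer ({y} : Set G)) ≠ 1 := by
    intro h
    rw [h] at hlc
    exact hl.one_lt.ne' (Nat.dvd_one.mp hlc)
  have hdvd : n * Nat.card ↥(Subgroup.centralizer ({y} : Set G)) ∣ Nat.card G := by
    rw [← hn]
    exact Subgroup.card_subgroup_dvd_card _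
  obtain ⟨j, hj⟩ := hdvd
  exact ⟨_, n, j, ⟨t1, rfl, t2, t3, t4, t5, hn1, hn6, hn, hj, h7 _ t2 hc1⟩, hlc⟩

theorem conjSet_pow [Finite G] {C : Subgroup G} {g : G} (hg : g ∈ conjSet C) :
    g ≠ 1 ∧ g ^ Nat.card ↥C = 1 := by
  obtain ⟨a, x, ⟨hxC, hx1⟩, rfl⟩ := hg
  constructor
  · intro h
    apply hx1
    have h2 : a⁻¹ * (a * x * a⁻¹) * a = a⁻¹ * 1 * a := by rw [h]
    simpa [mul_assoc] using h2
  · rw [conj_pow]
    have h1 : (⟨x, hxC⟩ : ↥C) ^ Nat.card ↥C = 1 := pow_card_eq_one'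
    have h2 : x ^ Nat.card ↥C = 1 := by
      have h3 := congrArg Subtype.val h1
      simpa only [SubmonoidClass.coe_pow, OneMemClass.coe_one] using h3
    rw [h2, mul_one, mul_inv_cancel]

theorem mem_conjSet_of_prime [Finite G] {Q nG : ℕ} {C : Subgroup G} {c n j : ℕ}
    (td : TD Q nG C c n j) (g : G) {p' : ℕ} (hp' : p'.Prime) (hpg : p' ∣ orderOf g)
    (hpc : p' ∣ c) : g ∈ conjSet C := by
  have hg0 : orderOf g ≠ 0 := (orderOf_pos g).ne'
  have hwo : orderOf (g ^ (orderOf g / p')) = p' := orderOf_pow_orderOf_div hg0 hpg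
  obtain ⟨a, ha⟩ := td.conj p' hp' hpc _ hwo
  have hw1 : a * g ^ (orderOf g / p') * a⁻¹ ≠ 1 := by
    intro h
    have h2 : g ^ (orderOf g / p') = 1 := by
      have h3 : a⁻¹ * (a * g ^ (orderOf g / p') * a⁻¹) * a = a⁻¹ * 1 * a := by rw [h]
      simpa [mul_assoc] using h3
    rw [h2, orderOf_one] at hwo
    exact hp'.one_lt.ne hwo
  have hcent := td.cent _ ha hw1
  have hmem : a * g * a⁻¹ ∈ C := by
    rw [← hcent, Subgroup.mem_centralizer_singleton_iff]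
    have hc : g * g ^ (orderOf g / p') = g ^ (orderOf g / p') * g :=
      (pow_succ' g _).symm.trans (pow_succ g _)
    calc a * g * a⁻¹ * (a * g ^ (orderOf g / p') * a⁻¹)
        = a * (g * g ^ (orderOf g / p')) * a⁻¹ := by group
      _ = a * (g ^ (orderOf g / p') * g) * a⁻¹ := by rw [hc]
      _ = a * g ^ (orderOf g / p') * a⁻¹ * (a * g * a⁻¹) := by group
  have hg1 : a * g * a⁻¹ ≠ 1 := by
    intro h
    have h2 : g = 1 := by
      have h3 : a⁻¹ * (a * g * a⁻¹) * a = a⁻¹ * 1 * a := by rw [h]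
      simpa [mul_assoc] using h3
    rw [h2, orderOf_one] at hpg
    exact hp'.one_lt.ne' (Nat.dvd_one.mp hpg)
  exact ⟨a⁻¹, a * g * a⁻¹, ⟨hmem, hg1⟩, by group⟩

theorem card_centralizer_conj (a w : G) :
    Nat.card ↥(Subgroup.centralizer ({a * w * a⁻¹} : Set G)) =
      Nat.card ↥(Subgroup.centralizer ({w} : Set G)) := by
  refine Nat.card_congr
    { toFun := fun u => ⟨a⁻¹ * u * a, ?_⟩
      invFun := fun v => ⟨a * v * a⁻¹, ?_⟩
      left_inv := ?_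
      right_inv := ?_ }
  · have hu := Subgroup.mem_centralizer_singleton_iff.mp u.2
    rw [Subgroup.mem_centralizer_singleton_iff]
    calc a⁻¹ * u * a * w = a⁻¹ * (u * (a * w * a⁻¹)) * a := by group
      _ = a⁻¹ * (a * w * a⁻¹ * u) * a := by rw [hu]
      _ = w * (a⁻¹ * u * a) := by group
  · have hv := Subgroup.mem_centralizer_singleton_iff.mp v.2
    rw [Subgroup.mem_centralizer_singleton_iff]
    calc a * v * a⁻¹ * (a * w * a⁻¹) = a * (v * w) * a⁻¹ := by group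
      _ = a * (w * v) * a⁻¹ := by rw [hv]
      _ = a * w * a⁻¹ * (a * v * a⁻¹) := by group
  · intro u
    apply Subtype.ext
    simp [mul_assoc]
  · intro v
    apply Subtype.ext
    simp [mul_assoc]

theorem td_card_eq [Finite G] {Q nG : ℕ} {C C' : Subgroup G} {c n j c' n' j' : ℕ}
    (td : TD Q nG C c n j) (td' : TD Q nG C' c' n' j') {p' : ℕ} (hp' : p'.Prime)
    (h1 : p' ∣ c) (h2 : p' ∣ c') : c = c' := by
  have hF : Fact p'.Prime := ⟨hp'⟩
  obtain ⟨w', hw'⟩ := exists_prime_orderOf_dvd_card' (G := ↥C') p' (by rw [td'.card]; exact h2)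
  have hw : orderOf (w' : G) = p' := by rw [Subgroup.orderOf_coe]; exact hw'
  obtain ⟨a, ha⟩ := td.conj p' hp' h1 _ hw
  have hw1 : (w' : G) ≠ 1 := by
    intro h
    rw [h, orderOf_one] at hw
    exact hp'.one_lt.ne hw
  have haw1 : a * (w' : G) * a⁻¹ ≠ 1 := by
    intro h
    apply hw1
    have h3 : a⁻¹ * (a * (w' : G) * a⁻¹) * a = a⁻¹ * 1 * a := by rw [h]
    simpa [mul_assoc] using h3
  have e1 := td.cent _ ha haw1
  have e2 := td'.cent _ w'.2 hw1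
  calc c = Nat.card ↥C := td.card.symm
    _ = Nat.card ↥(Subgroup.centralizer ({a * (w' : G) * a⁻¹} : Set G)) := by rw [e1]
    _ = Nat.card ↥(Subgroup.centralizer ({(w' : G)} : Set G)) := card_centralizer_conj a _
    _ = Nat.card ↥C' := by rw [e2]
    _ = c' := td'.card

theorem card_conjSet [Finite G] (hTI : PkgTI.{u}) {Q : ℕ} {C : Subgroup G} {c n j : ℕ}
    (td : TD Q (Nat.card G) C c n j) : (conjSet C).ncard = (c - 1) * j := by
  have h := hTI G (Subgroup.normalizer (C : Set G)) {x | x ∈ C ∧ x ≠ 1} ?_ ?_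
  · have hX : Nat.card ↥({x | x ∈ C ∧ x ≠ 1} : Set G) = c - 1 := by
      rw [Nat.card_coe_set_eq]
      have e : ({x | x ∈ C ∧ x ≠ 1} : Set G) = (C : Set G) \ {1} := by
        ext x
        simp
      rw [e, Set.ncard_sdiff_singleton_of_mem (Subgroup.one_mem C), ← Nat.card_coe_set_eq]
      exact congrArg (· - 1) td.card
    have hL : Nat.card {y : G // ∃ g : G, ∃ x ∈ ({x | x ∈ C ∧ x ≠ 1} : Set G),
        y = g * x * g⁻¹} = (conjSet C).ncard := Nat.card_coe_set_eq (conjSet C)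
    rw [hL, hX, td.norm] at h
    have hj := td.hj
    rw [hj] at h
    have hpos : 0 < n * c := Nat.mul_pos td.n1 (by have := td.c7; omega)
    exact Nat.eq_of_mul_eq_mul_right hpos (by rw [h]; ring)
  · rintro g hg x ⟨hxC, hx1⟩
    refine ⟨(Subgroup.mem_normalizer_iff.mp hg x).mp hxC, ?_⟩
    intro h
    apply hx1
    have h3 : g⁻¹ * (g * x * g⁻¹) * g = g⁻¹ * 1 * g := by rw [h]
    simpa [mul_assoc] using h3
  · rintro g x ⟨hxC, hx1⟩ ⟨hgC, hg1⟩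
    have e1 := td.cent x hxC hx1
    have e2 := td.cent _ hgC hg1
    rw [Subgroup.mem_normalizer_iff]
    intro u
    have hiff1 : ∀ v : G, v ∈ C ↔ v * x = x * v := fun v => by
      rw [← e1, Subgroup.mem_centralizer_singleton_iff]
    have hiff2 : ∀ v : G, v ∈ C ↔ v * (g * x * g⁻¹) = g * x * g⁻¹ * v := fun v => by
      rw [← e2, Subgroup.mem_centralizer_singleton_iff]
    rw [hiff1 u, hiff2 (g * u * g⁻¹)]
    constructor
    · intro hu
      calc g * u * g⁻¹ * (g * x * g⁻¹) = g * (u * x) * g⁻¹ := by group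
        _ = g * (x * u) * g⁻¹ := by rw [hu]
        _ = g * x * g⁻¹ * (g * u * g⁻¹) := by group
    · intro hu
      calc u * x = g⁻¹ * (g * u * g⁻¹ * (g * x * g⁻¹)) * g := by group
        _ = g⁻¹ * (g * x * g⁻¹ * (g * u * g⁻¹)) * g := by rw [hu]
        _ = x * u := by group

theorem conjSet_disjoint [Finite G] {C C' : Subgroup G}
    (h : Nat.Coprime (Nat.card ↥C) (Nat.card ↥C')) : Disjoint (conjSet C) (conjSet C') := by
  rw [Set.disjoint_left]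
  intro g hg hg'
  obtain ⟨h1, h2⟩ := conjSet_pow hg
  obtain ⟨-, h3⟩ := conjSet_pow hg'
  apply h1
  have d1 := orderOf_dvd_of_pow_eq_one h2
  have d2 := orderOf_dvd_of_pow_eq_one h3
  have d3 := Nat.dvd_gcd d1 d2
  rw [Nat.Coprime] at h
  rw [h] at d3
  exact orderOf_eq_one_iff.mp (Nat.dvd_one.mp d3)

theorem conjSet_subset_Z [Finite G] {Q nG : ℕ} {C : Subgroup G} {c n j : ℕ}
    (td : TD Q nG C c n j) : conjSet C ⊆ {g : G | g ≠ 1 ∧ g ^ Q = 1} := by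
  intro g hg
  obtain ⟨h1, h2⟩ := conjSet_pow hg
  refine ⟨h1, ?_⟩
  obtain ⟨e, he⟩ := td.dvd
  rw [he, ← td.card, pow_mul, h2, one_pow]

theorem exists_conj_mem {C : Subgroup G} {g : G} (hg : g ∈ conjSet C) :
    ∃ a : G, a * g * a⁻¹ ∈ C := by
  obtain ⟨b, x, ⟨hxC, -⟩, rfl⟩ := hg
  refine ⟨b⁻¹, ?_⟩
  have e : b⁻¹ * (b * x * b⁻¹) * b⁻¹⁻¹ = x := by group
  rw [e]
  exact hxC

end

/-- **Package (TOR2).** -/
theorem pkgTor2 : PkgTor2.{u} := by
  intro hTI hAR0 hAR1 hAR2 hAR3 G _ _ m q r hm hq hr hG hZ hloc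
  obtain ⟨hfac, hrq, h7, hcq, hcq1, hcq2, hcr⟩ := hAR0 m q r hm hq hr
  -- basic arithmetic
  have hq27 : 27 ≤ q := by
    rw [hq]
    calc 27 = 3 ^ 3 := by norm_num
      _ ≤ 3 ^ (2 * m + 1) := Nat.pow_le_pow_right (by norm_num) (by omega)
  have hqq : 27 * q ≤ q ^ 2 := by nlinarith
  obtain ⟨Q, hQ⟩ : ∃ Q : ℕ, Q = q ^ 2 - q + 1 := ⟨_, rfl⟩
  have hQ1 : Q ≠ 1 := by omega
  have hQG : Q ∣ Nat.card G := by
    rw [hG]
    have e : q ^ 3 + 1 = (q + 1) * Q := by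
      rw [hQ]
      obtain ⟨k, rfl⟩ : ∃ k, q = k + 1 := ⟨q - 1, by omega⟩
      have e2 : (k + 1) ^ 2 - (k + 1) = k * (k + 1) := by
        apply Nat.sub_eq_of_eq_add
        ring
      rw [e2]
      ring
    rw [e]
    exact Dvd.intro_left (q ^ 3 * (q + 1) * (q - 1)) (by ring)
  rw [← hQ] at hZ h7 hfac
  have hZ' : 3 * ({g : G | g ≠ 1 ∧ g ^ Q = 1} : Set G).ncard =
      q ^ 4 * (q ^ 2 - 1) * (q - 2) := by
    rw [← hZ, ← Nat.card_coe_set_eq]
    rfl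
  have hloc' : ∀ l : ℕ, l.Prime → l ∣ Q → ∃ (C : Subgroup G) (c n j : ℕ),
      TD Q (Nat.card G) C c n j ∧ l ∣ c := by
    intro l hl hlQ
    have hF : Fact l.Prime := ⟨hl⟩
    obtain ⟨y, hy⟩ := exists_prime_orderOf_dvd_card' (G := G) l (hlQ.trans hQG)
    have h := td_of_local (q := q) (by rw [← hQ]; exact h7) hl y hy
      (hloc l hl (by rw [← hQ]; exact hlQ) y hy)
    rw [← hQ] at h
    obtain ⟨c, n, j, htd, hlc⟩ := h
    exact ⟨_, c, n, j, htd, hlc⟩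
  -- every element of Z has a prime divisor of its order dividing Q
  have hZprime : ∀ g : G, g ≠ 1 → g ^ Q = 1 → ∃ p' : ℕ, p'.Prime ∧ p' ∣ orderOf g ∧ p' ∣ Q := by
    intro g hg1 hgQ
    have ho : orderOf g ≠ 1 := fun h => hg1 (orderOf_eq_one_iff.mp h)
    exact ⟨_, Nat.minFac_prime ho, Nat.minFac_dvd _,
      (Nat.minFac_dvd _).trans (orderOf_dvd_of_pow_eq_one hgQ)⟩
  -- first torus
  obtain ⟨C₁, c₁, n₁, j₁, td₁, hl₁⟩ := hloc' Q.minFac (Nat.minFac_prime hQ1) (Nat.minFac_dvd Q)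
  have hcard₁ := card_conjSet hTI td₁
  by_cases hc₁Q : c₁ = Q
  · exfalso
    have hZeq : ({g : G | g ≠ 1 ∧ g ^ Q = 1} : Set G) = conjSet C₁ := by
      apply Set.Subset.antisymm
      · rintro g ⟨hg1, hgQ⟩
        obtain ⟨p', hp', hpg, hpQ⟩ := hZprime g hg1 hgQ
        exact mem_conjSet_of_prime td₁ g hp' hpg (by rw [hc₁Q]; exact hpQ)
      · exact conjSet_subset_Z td₁
    rw [hZeq, hcard₁] at hZ'
    exact hAR2 m q c₁ n₁ j₁ hm hq (by rw [hc₁Q, hQ]) td₁.n1 td₁.n6 (by rw [← hG]; exact td₁.hj)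
      hZ'
  -- second torus
  have hdiv₁ : c₁ * (Q / c₁) = Q := Nat.mul_div_cancel' td₁.dvd
  have hQc₁ : Q / c₁ ≠ 1 := by
    intro h
    rw [h, mul_one] at hdiv₁
    exact hc₁Q hdiv₁
  have hl₂Q : (Q / c₁).minFac ∣ Q :=
    (Nat.minFac_dvd _).trans (Dvd.intro_left c₁ hdiv₁)
  obtain ⟨C₂, c₂, n₂, j₂, td₂, hl₂⟩ := hloc' (Q / c₁).minFac (Nat.minFac_prime hQc₁) hl₂Q
  have hl₂c₁ : ¬ (Q / c₁).minFac ∣ c₁ := by
    intro h
    have h2 := Nat.dvd_gcd h (Nat.minFac_dvd (Q / c₁))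
    have h3 : Nat.gcd c₁ (Q / c₁) = 1 := td₁.cop
    rw [h3] at h2
    exact (Nat.minFac_prime hQc₁).one_lt.ne' (Nat.dvd_one.mp h2)
  have hcard₂ := card_conjSet hTI td₂
  have hcop₁₂ : Nat.Coprime c₁ c₂ := by
    apply Nat.coprime_of_dvd
    intro k hk hk1 hk2
    have e := td_card_eq td₁ td₂ hk hk1 hk2
    rw [← e] at hl₂
    exact hl₂c₁ hl₂
  have hdisj₁₂ : Disjoint (conjSet C₁) (conjSet C₂) :=
    conjSet_disjoint (by rw [td₁.card, td₂.card]; exact hcop₁₂)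
  have hmul : c₁ * c₂ ∣ Q := hcop₁₂.mul_dvd_of_dvd_of_dvd td₁.dvd td₂.dvd
  by_cases hc₁₂Q : c₁ * c₂ = Q
  · -- the two classes cover Z
    have hZeq : ({g : G | g ≠ 1 ∧ g ^ Q = 1} : Set G) = conjSet C₁ ∪ conjSet C₂ := by
      apply Set.Subset.antisymm
      · rintro g ⟨hg1, hgQ⟩
        obtain ⟨p', hp', hpg, hpQ⟩ := hZprime g hg1 hgQ
        rw [← hc₁₂Q] at hpQ
        rcases (Nat.Prime.dvd_mul hp').mp hpQ with h | h
        · exact Or.inl (mem_conjSet_of_prime td₁ g hp' hpg h)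
        · exact Or.inr (mem_conjSet_of_prime td₂ g hp' hpg h)
      · exact Set.union_subset (conjSet_subset_Z td₁) (conjSet_subset_Z td₂)
    have hcov : ∀ g : G, g ≠ 1 → g ^ (q ^ 2 - q + 1) = 1 →
        (∃ a : G, a * g * a⁻¹ ∈ C₁) ∨ (∃ a : G, a * g * a⁻¹ ∈ C₂) := by
      intro g hg1 hgQ
      rw [← hQ] at hgQ
      have hgZ : g ∈ ({g : G | g ≠ 1 ∧ g ^ Q = 1} : Set G) := ⟨hg1, hgQ⟩
      rw [hZeq] at hgZ
      rcases hgZ with h | h
      · exact Or.inl (exists_conj_mem h)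
      · exact Or.inr (exists_conj_mem h)
    rw [hZeq, Set.ncard_union_eq hdisj₁₂ (Set.toFinite _) (Set.toFinite _), hcard₁, hcard₂]
      at hZ'
    obtain ⟨hn₁, hn₂, hcc⟩ := hAR1 m q r c₁ c₂ n₁ n₂ j₁ j₂ hm hq hr td₁.c7 td₂.c7
      (by rw [hc₁₂Q, hQ]) td₁.n1 td₁.n6 td₂.n1 td₂.n6 (by rw [← hG]; exact td₁.hj)
      (by rw [← hG]; exact td₂.hj) hZ'
    rcases hcc with ⟨e1, e2⟩ | ⟨e1, e2⟩
    · refine ⟨C₁, C₂, td₁.cyc, td₂.cyc, by rw [td₁.card, e1], by rw [td₂.card, e2],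
        by rw [td₁.norm, hn₁, e1], by rw [td₂.norm, hn₂, e2], td₁.cent, td₂.cent, ?_⟩
      intro g hg1 hgQ
      rcases hcov g hg1 hgQ with ⟨a, ha⟩ | ⟨a, ha⟩
      · exact ⟨a, Or.inl ha⟩
      · exact ⟨a, Or.inr ha⟩
    · refine ⟨C₂, C₁, td₂.cyc, td₁.cyc, by rw [td₂.card, e2], by rw [td₁.card, e1],
        by rw [td₂.norm, hn₂, e2], by rw [td₁.norm, hn₁, e1], td₂.cent, td₁.cent, ?_⟩
      intro g hg1 hgQ
      rcases hcov g hg1 hgQ with ⟨a, ha⟩ | ⟨a, ha⟩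
      · exact ⟨a, Or.inr ha⟩
      · exact ⟨a, Or.inl ha⟩
  · -- a third torus: contradiction
    exfalso
    have hdiv₁₂ : c₁ * c₂ * (Q / (c₁ * c₂)) = Q := Nat.mul_div_cancel' hmul
    have hQc₁₂ : Q / (c₁ * c₂) ≠ 1 := by
      intro h
      rw [h, mul_one] at hdiv₁₂
      exact hc₁₂Q hdiv₁₂
    have hl₃Q : (Q / (c₁ * c₂)).minFac ∣ Q :=
      (Nat.minFac_dvd _).trans (Dvd.intro_left (c₁ * c₂) hdiv₁₂)
    obtain ⟨C₃, c₃, n₃, j₃, td₃, hl₃⟩ :=
      hloc' (Q / (c₁ * c₂)).minFac (Nat.minFac_prime hQc₁₂) hl₃Q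
    have hpr₃ := Nat.minFac_prime hQc₁₂
    have hc₁pos : 0 < c₁ := by have := td₁.c7; omega
    have hc₂pos : 0 < c₂ := by have := td₂.c7; omega
    have hQ₁ : Q / c₁ = c₂ * (Q / (c₁ * c₂)) :=
      Nat.div_eq_of_eq_mul_right hc₁pos (hdiv₁₂.symm.trans (by ring))
    have hQ₂ : Q / c₂ = c₁ * (Q / (c₁ * c₂)) :=
      Nat.div_eq_of_eq_mul_right hc₂pos (hdiv₁₂.symm.trans (by ring))
    have hl₃c₁ : ¬ (Q / (c₁ * c₂)).minFac ∣ c₁ := by
      intro h
      have h2 := Nat.dvd_gcd h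
        (show (Q / (c₁ * c₂)).minFac ∣ Q / c₁ by
          rw [hQ₁]; exact Dvd.dvd.mul_left (Nat.minFac_dvd _) c₂)
      have h3 : Nat.gcd c₁ (Q / c₁) = 1 := td₁.cop
      rw [h3] at h2
      exact hpr₃.one_lt.ne' (Nat.dvd_one.mp h2)
    have hl₃c₂ : ¬ (Q / (c₁ * c₂)).minFac ∣ c₂ := by
      intro h
      have h2 := Nat.dvd_gcd h
        (show (Q / (c₁ * c₂)).minFac ∣ Q / c₂ by
          rw [hQ₂]; exact Dvd.dvd.mul_left (Nat.minFac_dvd _) c₁)
      have h3 : Nat.gcd c₂ (Q / c₂) = 1 := td₂.cop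
      rw [h3] at h2
      exact hpr₃.one_lt.ne' (Nat.dvd_one.mp h2)
    have hcard₃ := card_conjSet hTI td₃
    have hcop₁₃ : Nat.Coprime c₁ c₃ := by
      apply Nat.coprime_of_dvd
      intro k hk hk1 hk2
      have e := td_card_eq td₁ td₃ hk hk1 hk2
      rw [← e] at hl₃
      exact hl₃c₁ hl₃
    have hcop₂₃ : Nat.Coprime c₂ c₃ := by
      apply Nat.coprime_of_dvd
      intro k hk hk1 hk2
      have e := td_card_eq td₂ td₃ hk hk1 hk2
      rw [← e] at hl₃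
      exact hl₃c₂ hl₃
    have hdisj₁₃ : Disjoint (conjSet C₁) (conjSet C₃) :=
      conjSet_disjoint (by rw [td₁.card, td₃.card]; exact hcop₁₃)
    have hdisj₂₃ : Disjoint (conjSet C₂) (conjSet C₃) :=
      conjSet_disjoint (by rw [td₂.card, td₃.card]; exact hcop₂₃)
    have hsub : conjSet C₁ ∪ conjSet C₂ ∪ conjSet C₃ ⊆ ({g : G | g ≠ 1 ∧ g ^ Q = 1} : Set G) :=
      Set.union_subset (Set.union_subset (conjSet_subset_Z td₁) (conjSet_subset_Z td₂))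
        (conjSet_subset_Z td₃)
    have hle := Set.ncard_le_ncard hsub (Set.toFinite _)
    rw [Set.ncard_union_eq (Set.disjoint_union_left.mpr ⟨hdisj₁₃, hdisj₂₃⟩) (Set.toFinite _)
      (Set.toFinite _), Set.ncard_union_eq hdisj₁₂ (Set.toFinite _) (Set.toFinite _),
      hcard₁, hcard₂, hcard₃] at hle
    exact hAR3 m q c₁ c₂ c₃ n₁ n₂ n₃ j₁ j₂ j₃ hm hq td₁.c7 td₂.c7 td₃.c7 td₁.n1 td₁.n6
      td₂.n1 td₂.n6 td₃.n1 td₃.n6 (by rw [← hG]; exact td₁.hj) (by rw [← hG]; exact td₂.hj)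
      (by rw [← hG]; exact td₃.hj) (by rw [← hZ']; omega)

end Cfsg.Agent.Lib.Helper96.ReeTor
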